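import Cfsg.Prelude.Def_GeometricClasses
import Cfsg.Agent.MaxSub.SubfieldOrth

/-!
Unitary subfield groups of index two are maximal for `n ≥ 10` (proof of S5659, helper24).
-/

set_option autoImplicit false
open Cfsg

namespace Cfsg.Agent.UGeom99

theorem orth_isMaximalIn {F : Type*} [Field F] [Fintype F] (n q : ℕ) (hF : Fintype.card F = q ^ 2) (hn : 6 ≤ n) (hodd : Odd q) (F₀ : Subfield F) (hcard : Fintype.card F = Nat.card F₀ ^ 2) (P : Matrix.GeneralLinearGroup (Fin n) F) (hP : Cfsg.Geo.IsFormRationalStructure (Cfsg.hermForm n F q) F₀ 1 P) : Cfsg.Geo.IsMaximalIn (Cfsg.GU n F q ⊓ Cfsg.Geo.specialLinear (Fin n) F) (Cfsg.Geo.subfieldSubgroup F₀ P ⊓ (Cfsg.GU n F q ⊓ Cfsg.Geo.specialLinear (Fin n) F)) := by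
  classical
  obtain ⟨σ, hσ, hf⟩ := HermStab.exists_setup (n := n) hF
  have hq : Nat.card F₀ = q := Nat.pow_left_injective two_ne_zero (hcard.symm.trans hF)
  obtain ⟨ε, hε⟩ : ∃ a, σ a ≠ a := by
    by_contra h
    simp only [not_exists, not_not] at h
    exact hf.ne_refl (RingEquiv.ext h)
  have hfix : ∀ a : F, a ∈ F₀ ↔ σ a = a := fun a => by
    haveI := Fintype.ofFinite F₀
    have hle : ∀ b ∈ F₀, σ b = b := fun b hb => by
      have h := congrArg Subtype.val (FiniteField.pow_card (⟨b, hb⟩ : F₀))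
      rw [← Nat.card_eq_fintype_card, hq] at h
      rw [hσ]
      simpa using h
    refine ⟨hle a, fun ha => ?_⟩
    let φ : F₀ → {x : F // x ^ q = x} := fun b => ⟨b, by rw [← hσ]; exact hle b b.2⟩
    have hinj : Function.Injective φ := fun b c h => by
      simpa [φ] using h
    obtain ⟨b, hb⟩ := (Nat.bijective_iff_injective_and_card φ).mpr
      ⟨hinj, by rw [hq, Unitary.card_fixed hF]⟩ |>.surjective ⟨a, by rw [← hσ]; exact ha⟩
    have hb' : (b : F) = a := congrArg Subtype.val hb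
    exact hb' ▸ b.2
  have hd : SubfieldTwo.IsIndexTwo F₀ σ ε := ⟨hfix, hf.involutive, hε⟩
  have hrat : ∀ x y, SubfieldTwo.Rat F₀ P x → SubfieldTwo.Rat F₀ P y →
      Cfsg.hermForm n F q x y ∈ F₀ := fun x y hx hy => by
    obtain ⟨u, hu, rfl⟩ := SubfieldTwo.rat_iff.mp hx
    obtain ⟨w, hw, rfl⟩ := SubfieldTwo.rat_iff.mp hy
    simpa using hP u w hu hw
  have h2 : (2 : F) ≠ 0 := fun h => by
    have := CharP.ringChar_of_prime_eq_zero (R := F) Nat.prime_two (by exact_mod_cast h)
    have hev : Even (Fintype.card F) := by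
      rw [Nat.even_iff]; exact FiniteField.even_card_iff_char_two.mp this
    rw [hF, Nat.even_pow] at hev
    exact Nat.not_odd_iff_even.mpr hev.1 hodd
  have hn' : 6 ≤ Fintype.card (Fin n) := by simpa using hn
  rw [← HermStab.su_eq]
  refine MaxSub.isMaximalIn_of inf_le_right ?_ fun M hHM hMG g hg hgH => ?_
  · -- a transvection at a rational singular vector
    obtain ⟨a, ha, ha0, haa, -⟩ := SubfieldOrth.exists_rat_singular hf hd hrat h2
      (![] : Fin 0 → Fin n → F) (fun i => i.elim0) (by omega)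
    obtain ⟨c, hc0, hc⟩ := MaxSub.exists_skew hf
    refine ⟨MaxSub.ut (Cfsg.hermForm n F q) a c, HermStab.ut_mem_su hf haa hc, fun h => ?_⟩
    obtain ⟨l, hl, hlg⟩ := SubfieldTwo.rat_of_mem h.1
    obtain ⟨x, hx, -, hxa⟩ := SubfieldOrth.exists_rat_dual hf hd hrat
      (![] : Fin 0 → Fin n → F) (fun i => i.elim0) (y := a) (by simpa using ha0)
    have hla := hlg a ha
    rw [MaxSub.ut_mulVec hf haa, haa, mul_zero, zero_smul, add_zero] at hla
    have hr := hlg x hx
    rw [MaxSub.ut_mulVec hf haa] at hr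
    have hlF : l ∈ F₀ := by
      have h1 := hrat _ _ hla hx
      rw [hf.smul_left] at h1
      have := mul_mem h1 (inv_mem (hrat a x ha hx))
      rwa [mul_inv_cancel_right₀ (MaxSub.hswap_ne_zero hf hxa)] at this
    have h3 := SubfieldTwo.rat_sub hr (SubfieldTwo.rat_smul hlF hx)
    rw [smul_add, add_sub_cancel_left, smul_smul] at h3
    have h4 := hrat _ _ h3 hx
    rw [hf.smul_left] at h4
    have hax := hrat x a hx ha
    have h5 := mul_mem h4 (inv_mem (mul_mem (mul_mem hlF hax) (hrat a x ha hx)))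
    have hne := MaxSub.hswap_ne_zero hf hxa
    rw [show l * (c * Cfsg.hermForm n F q x a) * Cfsg.hermForm n F q a x *
      (l * Cfsg.hermForm n F q x a * Cfsg.hermForm n F q a x)⁻¹ = c by field_simp] at h5
    rw [(hfix c).mp h5] at hc
    exact hc0 ((mul_eq_zero.mp (by linear_combination hc : (2 : F) * c = 0)).resolve_left h2)
  · have hqM : ∀ a b, SubfieldTwo.Rat F₀ P a → SubfieldTwo.Rat F₀ P b →
        Cfsg.hermForm n F q a a = 0 → Cfsg.hermForm n F q b a = 0 →
        HermStab.qe (Cfsg.hermForm n F q) a b (-Cfsg.hermForm n F q b b / 2) ∈ M := by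
      intro a b ha hb haa hba
      refine hHM ⟨SubfieldTwo.mem_of_rat one_ne_zero fun x hx => ?_,
        HermStab.qe_mem_su hf haa hba (SubfieldOrth.half_trace hf hd hrat hb h2)⟩
      rw [one_smul, HermStab.qe_mulVec hf haa hba]
      exact SubfieldTwo.rat_add (SubfieldTwo.rat_sub (SubfieldTwo.rat_add hx
        (SubfieldTwo.rat_smul (hrat x a hx ha) hb)) (SubfieldTwo.rat_smul (hrat x b hx hb) ha))
        (SubfieldTwo.rat_smul (mul_mem (div_mem (neg_mem (hrat b b hb hb)) (ofNat_mem F₀ 2))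
          (hrat x a hx ha)) ha)
    exact HermStab.le_of_centres hF hσ hf (by omega)
      (SubfieldOrth.centre_all hf hd hrat h2 hn' hqM hg (hMG hg).1 fun h => hgH ⟨h, hMG hg⟩)

end Cfsg.Agent.UGeom99
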