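import Cfsg.Agent.MaxSub.Lagrangian

/-!
The stabiliser of a pair of complementary maximal totally isotropic subspaces is maximal already
for `m ≥ 3` unless the form is orthogonal (adapted from `MaxSub.Lagrangian`, helper24; helper99).
-/

set_option autoImplicit false

namespace Cfsg.Agent.LagPair

open Matrix Cfsg.Agent.MaxSub

variable {ι : Type} [Fintype ι] [DecidableEq ι] {F : Type*} [Field F]
variable {s : F →+* F} {c : F} {f : (ι → F) → (ι → F) → F}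

/-- A common vector on one side gives a hyperplane of common vectors on the other side. -/
theorem perp_step [Finite F] (hf : IsPairForm s c f) {m : ℕ} {W₁ W₂ : Submodule F (ι → F)}
    (hp : IsPair f m W₁ W₂) (hr : ∃ r, s r + c * r ≠ 0) {M : Subgroup (GL ι F)}
    (hiso : ∀ x ∈ M, x ∈ isom f)
    (hE : ∀ v ∈ W₁, ∀ u ∈ W₂, f v u = 0 → E f c v u ∈ M)
    (hA : ∀ h ∈ M, (∀ x ∈ W₁, (h : Matrix ι ι F) *ᵥ x ∈ W₁) →
      ∀ x ∈ W₂, (h : Matrix ι ι F) *ᵥ x ∈ W₂)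
    {g : GL ι F} (hg : g ∈ M) {a₀ : ι → F} (ha₀ : a₀ ∈ W₁) (ha₀0 : a₀ ≠ 0)
    (hga : (g : Matrix ι ι F) *ᵥ a₀ ∈ W₁) {u₀ : ι → F} (hu₀ : u₀ ∈ W₂) (hau : f a₀ u₀ = 0) :
    (g : Matrix ι ι F) *ᵥ u₀ ∈ W₂ := by
  have hgi := hiso g hg
  set a := (g : Matrix ι ι F) *ᵥ a₀ with ha
  have ha0 : a ≠ 0 := mulVec_ne_zero g ha₀0
  obtain ⟨v, hv, u₁, hu₁, hdec⟩ := hp.exists_add ((g : Matrix ι ι F) *ᵥ u₀)
  have key : ∀ r : F, ∀ x ∈ W₂, f x (r • v) • a + (c * f x a) • (r • v) = 0 := by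
    intro r x hx
    have hru := W₂.smul_mem r hu₀
    have hau' : f a₀ (r • u₀) = 0 := by rw [hf.smul_right, hau, mul_zero]
    set u := (g : Matrix ι ι F) *ᵥ (r • u₀) with hu
    have hud : u = r • v + r • u₁ := by rw [hu, mulVec_smul, ← hdec, smul_add]
    set t := g * E f c a₀ (r • u₀) * g⁻¹ with ht
    have htM : t ∈ M := mul_mem (mul_mem hg (hE a₀ ha₀ _ hru hau')) (inv_mem hg)
    have hte : ∀ y, (t : Matrix ι ι F) *ᵥ y = y + f y u • a + (c * f y a) • u := fun y => by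
      rw [ht, E_conj hf hgi (hp.iso₁ a₀ ha₀ a₀ ha₀) (hp.iso₂ _ hru _ hru) hau',
        E_mulVec hf (by rw [mem_isom.mp hgi]; exact hp.iso₁ a₀ ha₀ a₀ ha₀)
        (by rw [mem_isom.mp hgi]; exact hp.iso₂ _ hru _ hru) (by rw [mem_isom.mp hgi]; exact hau')]
    have hfix : ∀ y ∈ W₁, (t : Matrix ι ι F) *ᵥ y ∈ W₁ := fun y hy => by
      rw [hte, hp.iso₁ y hy a hga, mul_zero, zero_smul, add_zero]
      exact add_mem hy (W₁.smul_mem _ hga)
    have h := hA t htM hfix x hx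
    rw [hte, add_assoc, Submodule.add_mem_iff_right _ hx, hud, hf.add_right,
      hp.iso₂ x hx _ (W₂.smul_mem r hu₁), add_zero, smul_add, ← add_assoc,
      Submodule.add_mem_iff_left _ (W₂.smul_mem _ (W₂.smul_mem r hu₁))] at h
    exact hp.eq_zero (add_mem (W₁.smul_mem _ hga) (W₁.smul_mem _ (W₁.smul_mem r hv))) h
  obtain ⟨x, hx, hax, -⟩ := exists_dual_mem hf hp (U := ⊥) hga (by simpa using ha0)
  have hxa : f x a ≠ 0 := swap_ne hf (by rw [hax]; exact one_ne_zero)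
  have hcx : c * f x a ≠ 0 := mul_ne_zero (c_ne hf) hxa
  obtain ⟨l, hl⟩ : ∃ l : F, v = l • a := ⟨-((c * f x a)⁻¹ * f x v), by
    have h := key 1 x hx
    rw [one_smul] at h
    rw [neg_smul, mul_smul, ← smul_neg, ← eq_neg_of_add_eq_zero_right h, smul_smul,
      inv_mul_cancel₀ hcx, one_smul]⟩
  have hl0 : l = 0 := by
    by_contra hl0
    obtain ⟨r, hr⟩ := hr
    have h := key (r / l) x hx
    rw [hl, smul_smul, div_mul_cancel₀ _ hl0, hf.smul_right, smul_smul, ← add_smul,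
      smul_eq_zero] at h
    exact hr ((mul_eq_zero.mp (show (s r + c * r) * f x a = 0 by
      linear_combination h.resolve_right ha0)).resolve_right hxa)
  rw [← hdec, hl, hl0, zero_smul, zero_add]
  exact hu₁

/-- The stabiliser of the pair is maximal, given what the one-sided cases yield. -/
theorem isMaximalIn_of_cores_three [Finite F] (hf : IsPairForm s c f) {m : ℕ} (hm : 3 ≤ m)
    {D : Fin 2 → Submodule F (ι → F)} (hp : IsPair f m (D 0) (D 1))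
    {G : Subgroup (GL ι F)} (hG : G ≤ isom f)
    (hEG : ∀ v ∈ D 0, ∀ u ∈ D 1, f v u = 0 → E f c v u ∈ G ∧ E f c u v ∈ G)
    (hr : ∃ r, s r + c * r ≠ 0)
    (hne : ∃ x ∈ G, x ∉ Geo.decompositionStabilizer D)
    {w : GL ι F} (hwG : w ∈ G) (hw0 : ∀ x ∈ D 0, (w : Matrix ι ι F) *ᵥ x ∈ D 1)
    (hw1 : ∀ x ∈ D 1, (w : Matrix ι ι F) *ᵥ x ∈ D 0)
    (hfull : ∀ M : Subgroup (GL ι F), M ≤ G →
      (∀ v ∈ D 0, ∀ u ∈ D 1, f v u = 0 → E f c v u ∈ M) →
      (∀ u ∈ D 1, ∀ v ∈ D 0, f u v = 0 → E f c u v ∈ M) → w ∈ M → ∀ h ∈ M,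
      ((∀ x ∈ D 0, (h : Matrix ι ι F) *ᵥ x ∈ D 0) ∧ ¬ ∀ x ∈ D 1, (h : Matrix ι ι F) *ᵥ x ∈ D 1) ∨
      ((∀ x ∈ D 1, (h : Matrix ι ι F) *ᵥ x ∈ D 1) ∧ ¬ ∀ x ∈ D 0, (h : Matrix ι ι F) *ᵥ x ∈ D 0) →
      G ≤ M) :
    Geo.IsMaximalIn G (Geo.decompositionStabilizer D ⊓ G) := by
  classical
  refine MaxSub.isMaximalIn_of inf_le_right ?_ fun M hHM hMK g hg hgH => ?_
  · obtain ⟨x, hx, hx'⟩ := hne
    exact ⟨x, hx, fun h => hx' h.1⟩
  have hiso : ∀ x ∈ M, x ∈ isom f := fun x hx => hG (hMK hx)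
  have hE : ∀ v ∈ D 0, ∀ u ∈ D 1, f v u = 0 → E f c v u ∈ M := by
    intro v hv u hu hvu
    have hvv := hp.iso₁ v hv v hv
    have huu := hp.iso₂ u hu u hu
    refine hHM ⟨mem_stab_of_fix (fun x hx => ?_) (fun x hx => ?_), (hEG v hv u hu hvu).1⟩
    · rw [E_mulVec hf hvv huu hvu, hp.iso₁ x hx v hv, mul_zero, zero_smul, add_zero]
      exact add_mem hx ((D 0).smul_mem _ hv)
    · rw [E_mulVec hf hvv huu hvu, hp.iso₂ x hx u hu, zero_smul, add_zero]
      exact add_mem hx ((D 1).smul_mem _ hu)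
  have hE' : ∀ u ∈ D 1, ∀ v ∈ D 0, f u v = 0 → E f c u v ∈ M := by
    intro u hu v hv huv
    have hvv := hp.iso₁ v hv v hv
    have huu := hp.iso₂ u hu u hu
    refine hHM ⟨mem_stab_of_fix (fun x hx => ?_) (fun x hx => ?_),
      (hEG v hv u hu (eq_zero_comm hf huv)).2⟩
    · rw [E_mulVec hf huu hvv huv, hp.iso₁ x hx v hv, zero_smul, add_zero]
      exact add_mem hx ((D 0).smul_mem _ hv)
    · rw [E_mulVec hf huu hvv huv, hp.iso₂ x hx u hu, mul_zero, zero_smul, add_zero]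
      exact add_mem hx ((D 1).smul_mem _ hu)
  have hd : Module.finrank F (D 0) = Module.finrank F (D 1) := by rw [hp.fin₁, hp.fin₂]
  have hwM : w ∈ M := hHM ⟨mem_stab_of_swap hd hw0 hw1, hwG⟩
  by_cases hA : ∀ h ∈ M, (∀ x ∈ D 0, (h : Matrix ι ι F) *ᵥ x ∈ D 0) →
      ∀ x ∈ D 1, (h : Matrix ι ι F) *ᵥ x ∈ D 1
  swap
  · simp only [not_forall] at hA
    obtain ⟨h, hh, h1, hbad⟩ := hA
    exact hfull M hMK hE hE' hwM h hh (Or.inl ⟨h1, by simpa only [not_forall] using hbad⟩)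
  by_cases hB : ∀ h ∈ M, (∀ x ∈ D 1, (h : Matrix ι ι F) *ᵥ x ∈ D 1) →
      ∀ x ∈ D 0, (h : Matrix ι ι F) *ᵥ x ∈ D 0
  swap
  · simp only [not_forall] at hB
    obtain ⟨h, hh, h1, hbad⟩ := hB
    exact hfull M hMK hE hE' hwM h hh (Or.inr ⟨h1, by simpa only [not_forall] using hbad⟩)
  exfalso
  -- a common vector forces equality
  have hK : ∀ g ∈ M, ∀ a ∈ D 0, a ≠ 0 → ((g⁻¹ : GL ι F) : Matrix ι ι F) *ᵥ a ∈ D 0 →
      ∀ x ∈ D 0, (g : Matrix ι ι F) *ᵥ x ∈ D 0 := by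
    intro g hg a ha ha0 hga
    set a₀ := ((g⁻¹ : GL ι F) : Matrix ι ι F) *ᵥ a with ha₀
    have ha₀0 : a₀ ≠ 0 := mulVec_ne_zero g⁻¹ ha0
    have hga' : (g : Matrix ι ι F) *ᵥ a₀ = a := by rw [ha₀, mulVec_inv_mulVec]
    have h1 : ∀ u ∈ D 1, f a₀ u = 0 → (g : Matrix ι ι F) *ᵥ u ∈ D 1 := fun u hu h =>
      perp_step hf hp hr hiso hE hA hg hga ha₀0 (hga'.symm ▸ ha) hu h
    -- two independent common vectors on the other side
    obtain ⟨b, hb, hba, hb0⟩ : ∃ b ∈ D 1, f a₀ b = 0 ∧ b ≠ 0 := by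
      obtain ⟨e, he, heU⟩ := exists_notMem hf hp (U := Submodule.span F {a₀})
        (by rw [finrank_span_singleton ha₀0]; omega)
      obtain ⟨b, hb, heb, hbU⟩ := exists_dual_mem hf hp he heU
      exact ⟨b, hb, hbU a₀ hga (Submodule.mem_span_singleton_self _), fun h => by
        rw [h, zero_right hf] at heb; exact zero_ne_one heb⟩
    obtain ⟨e, he, heb, -⟩ := exists_dual_mem hf hp.symm (U := ⊥) hb (by simpa using hb0)
    obtain ⟨b', hb', hb'a, hb'e, hb'0⟩ :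
        ∃ b' ∈ D 1, f a₀ b' = 0 ∧ f e b' = 0 ∧ b' ≠ 0 := by
      obtain ⟨e', he', heU⟩ := exists_notMem hf hp
        (U := Submodule.span F (({a₀, e} : Finset (ι → F)) : Set (ι → F)))
        (lt_of_le_of_lt ((finrank_span_finset_le_card _).trans Finset.card_le_two) (by omega))
      obtain ⟨b', hb', heb', hbU⟩ := exists_dual_mem hf hp he' heU
      exact ⟨b', hb', hbU a₀ hga (Submodule.subset_span (by simp)),
        hbU e he (Submodule.subset_span (by simp)), fun h => by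
          rw [h, zero_right hf] at heb'; exact zero_ne_one heb'⟩
    have h2 : ∀ z ∈ D 1, f a₀ z = 0 → z ≠ 0 → ∀ x ∈ D 0, f z x = 0 →
        (g : Matrix ι ι F) *ᵥ x ∈ D 0 := fun z hz hza hz0 x hx hzx =>
      perp_step hf hp.symm hr hiso hE' hB hg hz hz0 (h1 z hz hza) hx hzx
    intro x hx
    -- `x` is a combination of vectors orthogonal to `b'` and to `b`
    have hx1 : f b (x - (f x b / f e b) • e) = 0 := eq_zero_comm hf (by
      rw [sub_left hf, hf.smul_left, div_mul_cancel₀ _ (swap_ne hf (by rw [heb]; exact one_ne_zero)),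
        sub_self])
    have hx2 : f b' ((f x b / f e b) • e) = 0 := eq_zero_comm hf (by
      rw [hf.smul_left, hb'e, mul_zero])
    have h3 := add_mem
      (h2 b hb hba hb0 _ (sub_mem hx ((D 0).smul_mem _ he)) hx1)
      (h2 b' hb' hb'a hb'0 _ ((D 0).smul_mem _ he) hx2)
    rwa [← mulVec_add, sub_add_cancel] at h3
  have hgi := hiso g hg
  let Z := (D 0).map (Matrix.mulVecLin ((g⁻¹ : GL ι F) : Matrix ι ι F))
  have hZd : Module.finrank F Z = m := by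
    rw [(Submodule.equivMapOfInjective _ (mulVec_injective g⁻¹) _).symm.finrank_eq, hp.fin₁]
  have hinv : ∀ v ∈ D 0, ∀ u ∈ D 1, f v u = 0 → ∀ z ∈ Z, f z u • v + (c * f z v) • u ∈ Z := by
    intro v hv u hu hvu z hz
    obtain ⟨x, hx, rfl⟩ := hz
    have hvv := hp.iso₁ v hv v hv
    have huu := hp.iso₂ u hu u hu
    set t := g * E f c v u * g⁻¹ with ht
    have htM : t ∈ M := mul_mem (mul_mem hg (hE v hv u hu hvu)) (inv_mem hg)
    have hte : ∀ y, (t : Matrix ι ι F) *ᵥ y = y + f y ((g : Matrix ι ι F) *ᵥ u) • ((g : Matrix ι ι F) *ᵥ v) +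
        (c * f y ((g : Matrix ι ι F) *ᵥ v)) • ((g : Matrix ι ι F) *ᵥ u) := fun y => by
      rw [ht, E_conj hf hgi hvv huu hvu, E_mulVec hf (by rw [mem_isom.mp hgi]; exact hvv)
        (by rw [mem_isom.mp hgi]; exact huu) (by rw [mem_isom.mp hgi]; exact hvu)]
    let A := D 0 ⊓ LinearMap.ker ((lm hf ((g : Matrix ι ι F) *ᵥ u)).prod
      (lm hf ((g : Matrix ι ι F) *ᵥ v)))
    have hA3 : 1 ≤ Module.finrank F A := by
      have e1 := Submodule.finrank_sup_add_finrank_inf_eq (D 0)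
        (LinearMap.ker ((lm hf ((g : Matrix ι ι F) *ᵥ u)).prod (lm hf ((g : Matrix ι ι F) *ᵥ v))))
      have e2 := LinearMap.finrank_range_add_finrank_ker
        ((lm hf ((g : Matrix ι ι F) *ᵥ u)).prod (lm hf ((g : Matrix ι ι F) *ᵥ v)))
      have e3 := Submodule.finrank_le (LinearMap.range
        ((lm hf ((g : Matrix ι ι F) *ᵥ u)).prod (lm hf ((g : Matrix ι ι F) *ᵥ v))))
      have e4 := Submodule.finrank_le (D 0 ⊔
        LinearMap.ker ((lm hf ((g : Matrix ι ι F) *ᵥ u)).prod (lm hf ((g : Matrix ι ι F) *ᵥ v))))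
      have e5 := hp.fin₁
      simp [Module.finrank_prod] at e2 e3 e4
      show 1 ≤ Module.finrank F ↥(D 0 ⊓ _)
      omega
    have hfix : ∀ a ∈ A, ((t⁻¹ : GL ι F) : Matrix ι ι F) *ᵥ a ∈ D 0 := by
      intro a ha
      obtain ⟨ha1, ha2⟩ := ha
      simp at ha2
      have : (t : Matrix ι ι F) *ᵥ a = a := by rw [hte, ha2.1, ha2.2]; simp
      rw [← this, inv_mulVec_mulVec]
      exact ha1
    obtain ⟨a, haA, ha0⟩ := A.ne_bot_iff.mp fun h => by rw [h, finrank_bot] at hA3; omega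
    have h1 := hK t htM a haA.1 ha0 (hfix a haA) x hx
    have h2 := Submodule.mem_map_of_mem
      (f := Matrix.mulVecLin ((g⁻¹ : GL ι F) : Matrix ι ι F)) h1
    rw [Matrix.mulVecLin_apply, ht, Units.val_mul, Units.val_mul, ← mulVec_mulVec,
      ← mulVec_mulVec, inv_mulVec_mulVec, E_mulVec hf hvv huu hvu, add_assoc] at h2
    exact (Submodule.add_mem_iff_right _ (Submodule.mem_map_of_mem
      (f := Matrix.mulVecLin ((g⁻¹ : GL ι F) : Matrix ι ι F)) hx)).mp h2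
  rcases eq_or_eq_of_invariant hf hp (by omega) hZd hinv with hZ | hZ
  · have h0 : ∀ x ∈ D 0, (g : Matrix ι ι F) *ᵥ x ∈ D 0 := fun x hx => by
      rw [← hZ] at hx
      obtain ⟨y, hy, rfl⟩ := hx
      rw [Matrix.mulVecLin_apply, mulVec_inv_mulVec]
      exact hy
    exact hgH ⟨mem_stab_of_fix h0 (hA g hg h0), hMK hg⟩
  · have h1 : ∀ x ∈ D 1, (g : Matrix ι ι F) *ᵥ x ∈ D 0 := fun x hx => by
      rw [← hZ] at hx
      obtain ⟨y, hy, rfl⟩ := hx
      rw [Matrix.mulVecLin_apply, mulVec_inv_mulVec]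
      exact hy
    have h0 : ∀ x ∈ D 0, (g : Matrix ι ι F) *ᵥ x ∈ D 1 := fun x hx => by
      have hwgx := hB (w * g) (mul_mem hwM hg) (fun y hy => by
        rw [Units.val_mul, ← mulVec_mulVec]; exact hw0 _ (h1 y hy)) x hx
      rw [Units.val_mul, ← mulVec_mulVec] at hwgx
      have := inv_mem_of_forall hw1 hd.le _ hwgx
      rwa [inv_mulVec_mulVec] at this
    exact hgH ⟨mem_stab_of_swap hd h0 h1, hMK hg⟩


/-- The stabiliser of the pair is maximal. -/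
theorem isMaximalIn_three [Finite F] (hf : IsPairForm s c f) {m : ℕ} (hm : 3 ≤ m)
    {D : Fin 2 → Submodule F (ι → F)} (hp : IsPair f m (D 0) (D 1))
    {θ : F} (hθ : θ ≠ 0) (hθc : c * s θ = θ)
    (hr : ∃ r, s r + c * r ≠ 0)
    (htr : ∀ a, c * s a = a → ∃ t, s t + c * t = a) {G : Subgroup (GL ι F)} (hG : G ≤ isom f)
    (hEG : ∀ v u, f v v = 0 → f u u = 0 → f v u = 0 → E f c v u ∈ G)
    (hTG : ∀ v a, f v v = 0 → c * s a = a → T f v a ∈ G)
    (hgen : ∀ M : Subgroup (GL ι F),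
      (∀ v a, f v v = 0 → c * s a = a → T f v a ∈ M) → G ≤ M) :
    Geo.IsMaximalIn G (Geo.decompositionStabilizer D ⊓ G) := by
  classical
  obtain ⟨w, hwG, hw0, hw1⟩ := exists_swap hf hp hθ hθc hTG hG
  refine isMaximalIn_of_cores_three hf hm hp hG (fun v hv u hu hvu => ⟨hEG v u (hp.iso₁ v hv v hv)
    (hp.iso₂ u hu u hu) hvu, hEG u v (hp.iso₂ u hu u hu) (hp.iso₁ v hv v hv)
    (eq_zero_comm hf hvu)⟩) hr ?_ hwG hw0 hw1 fun M hMK hE hE' hwM h hh hcases => ?_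
  · obtain ⟨v, hv, hv0⟩ := (D 0).ne_bot_iff.mp fun h => by
      have := hp.fin₁; rw [h, finrank_bot] at this; omega
    obtain ⟨y, hy, hvy, -⟩ := exists_dual_mem hf hp (U := ⊥) hv (by simpa using hv0)
    have hyv : f y v ≠ 0 := swap_ne hf (by rw [hvy]; exact one_ne_zero)
    have hy0 : y ≠ 0 := fun h => hyv (by rw [h, zero_left hf])
    have hvv := hp.iso₁ v hv v hv
    refine ⟨T f v θ, hTG _ _ hvv hθc, fun hmem => ?_⟩
    obtain ⟨σ, hσ⟩ := hmem
    have h1 : y + (θ * f y v) • v ∈ D (σ 1) := by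
      rw [← T_mulVec hf hvv, ← hσ 1, Matrix.toLin'_apply']
      exact Submodule.mem_map_of_mem (f := Matrix.mulVecLin (T f v θ : Matrix ι ι F)) hy
    rcases Fin.exists_fin_two.mp ⟨σ 1, rfl⟩ with hc | hc <;> rw [hc] at h1
    · exact hy0 (hp.eq_zero (by simpa using sub_mem h1 ((D 0).smul_mem (θ * f y v) hv)) hy)
    · refine hv0 (hp.eq_zero hv ((Submodule.smul_mem_iff _ (mul_ne_zero hθ hyv)).mp ?_))
      simpa using sub_mem h1 hy
  have hd : Module.finrank F (D 0) = Module.finrank F (D 1) := by rw [hp.fin₁, hp.fin₂]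
  have hswap : ∀ (W W' : Submodule F (ι → F)), (∀ x ∈ W, (w : Matrix ι ι F) *ᵥ x ∈ W') →
      Module.finrank F W' ≤ Module.finrank F W →
      (∀ x ∈ W, f x x = 0) →
      (∀ v ∈ W, ∀ a, c * s a = a → T f v a ∈ M) → ∀ v ∈ W', ∀ a, c * s a = a → T f v a ∈ M := by
    intro W W' hmap hdim hWi hT v hv a ha
    have hv' := inv_mem_of_forall hmap hdim v hv
    have h := mul_mem (mul_mem hwM (hT _ hv' a ha)) (inv_mem hwM)
    rwa [T_conj hf (hG hwG) (hWi _ hv'), mulVec_inv_mulVec] at h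
  rcases hcases with ⟨h1, hbad⟩ | ⟨h1, hbad⟩
  · have hT0 := T_mem_of_not_fix hf hp (by omega) htr hE hh (hG (hMK hh)) h1 hbad
    exact hgen M fun v a hv ha => T_mem_of_both hf hp hθ hθc hT0
      (hswap _ _ hw0 hd.ge (fun x hx => hp.iso₁ x hx x hx) hT0) hv ha
  · have hT1 := T_mem_of_not_fix hf hp.symm (by omega) htr hE' hh (hG (hMK hh)) h1 hbad
    exact hgen M fun v a hv ha => T_mem_of_both hf hp hθ hθc
      (hswap _ _ hw1 hd.le (fun x hx => hp.iso₂ x hx x hx) hT1) hT1 hv ha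

end Cfsg.Agent.LagPair
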