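import Cfsg.Prelude.Def_GeometricClasses
import Cfsg.Agent.MaxSub.LagrangianHerm
import Cfsg.Agent.UGeom99.LagPairThree

/-!
Stabilisers of totally isotropic pairs are maximal for `n ≥ 6` (proof of S5657, helper24).
-/

set_option autoImplicit false
open Cfsg

namespace Cfsg.Agent.UGeom99

theorem lagrangian_isMaximalIn {F : Type*} [Field F] [Fintype F] (n q : ℕ) (hF : Fintype.card F = q ^ 2) (hn : 6 ≤ n) (k : ℕ) (hk : 2 * k = n) (D : Fin 2 → Submodule F (Fin n → F)) (hD : Cfsg.Geo.IsMDecomposition k D) (hts : ∀ i, Cfsg.Geo.IsTotallySingularFor (Cfsg.hermForm n F q) (D i)) : Cfsg.Geo.IsMaximalIn (Cfsg.GU n F q ⊓ Cfsg.Geo.specialLinear (Fin n) F) (Cfsg.Geo.decompositionStabilizer D ⊓ (Cfsg.GU n F q ⊓ Cfsg.Geo.specialLinear (Fin n) F)) := by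
  have hf := LagPair.isPairForm_herm (n := n) hF
  have hp : LagPair.IsPair (hermForm n F q) k (D 0) (D 1) := by
    refine ⟨⟨hD.indep.pairwiseDisjoint (by decide), codisjoint_iff.mpr ?_⟩, hts 0, hts 1,
      hD.finrank_eq 0, hD.finrank_eq 1⟩
    rw [eq_top_iff, ← hD.iSup_eq_top, iSup_le_iff]
    exact Fin.forall_fin_two.mpr ⟨le_sup_left, le_sup_right⟩
  obtain ⟨θ, hθ, hθc⟩ := LagPair.exists_skew_ne_zero hF
  exact LagPair.isMaximalIn_three hf (by omega) hp hθ hθc (by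
    by_contra h
    simp only [not_exists, not_not] at h
    exact Unitary.conjHom_ne_id hF (RingHom.ext fun r => by simpa [← sub_eq_add_neg, sub_eq_zero] using h r)) (fun a => LagPair.exists_skew_eq hF)
    (fun g hg => hg.1)
    (fun v u h1 h2 h3 => ⟨LagPair.E_mem_isom hf h1 h2 h3, LagPair.det_E hf v u⟩)
    (fun v a h1 h2 => ⟨LagPair.T_mem_isom hf h1 h2, MaxSub.det_tv _ _⟩)
    (fun M => LagPair.le_of_T_mem hF (by omega))

end Cfsg.Agent.UGeom99
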